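import Cfsg.Agent.H88.J4Fusion.Core
import Cfsg.Agent.H23.Three.Linear

/-!
In a simple group of `J₄` type the involution `z` has a conjugate, other than itself, in `C_H(P)`.

The conjugates of `z` in the elementary abelian subgroup of order `2 ^ 11` form a single orbit of its
normaliser, of odd size; if none of them outside `sHat` commuted with `P`, the size would have to be
`127` and `sHat` would carry all transvections, against its structure lifts the field of four elements.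
-/

set_option autoImplicit false
set_option maxHeartbeats 400000
set_option linter.unusedSectionVars false
set_option linter.style.haveILetI false

namespace H88.J4Fusion

open Subgroup Cfsg.Agent.H69.J4
open scoped Pointwise

theorem sizes_ok : ∀ a ∈ [0, 36, 90, 126], ∀ m ∈ [0, 48, 96],
    1 + a + 15 * m ∣ ∏ i : Fin 11, (2 ^ 11 - 2 ^ (i : ℕ)) → 1 + a + 15 * m = 1 ∨ (a = 126 ∧ m = 0) := by
  decide +kernel

theorem orb_sub : ([orb0, orb1].all fun o => Nat.blt 0 o.length && o.all fun v =>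
    sVec.contains v && !Nat.beq v 0) = true := by decide +kernel

theorem orb_nodup : orb0.Nodup ∧ orb1.Nodup ∧ orb0.length = 18 ∧ orb1.length = 45 := by decide +kernel

variable {G : Type*} [Group G] [Finite G]
variable {z : G} {E P N : Subgroup G} {d : Data z E P} (R : Real d)
variable {e : ↥(centralizer ({z} : Set G)) →* MulAut ↥Cfsg.Spor.M22}

/-- The normaliser of the elementary subgroup. -/
def NV (R : Real d) : Subgroup G := normalizer (R.V0 : Set G)

theorem mem_NV {n : G} (h : ∀ x ∈ R.V0, n * x * n⁻¹ ∈ R.V0) : n ∈ NV R := by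
  refine mem_normalizer_iff.2 fun x => ⟨h x, fun hx => ?_⟩
  let f : R.V0 → R.V0 := fun y => ⟨n * y * n⁻¹, h y y.2⟩
  have hf : Function.Injective f := fun a b e => Subtype.ext (by
    have := congrArg (fun y : R.V0 => (y : G)) e
    simpa [f] using this)
  obtain ⟨y, hy⟩ := (Finite.injective_iff_surjective.1 hf) ⟨_, hx⟩
  have e : n * y * n⁻¹ = n * x * n⁻¹ := congrArg Subtype.val hy
  have : (y : G) = x := by simp at e; exact e
  exact this ▸ y.2

theorem maps_of_normA0 {h : ↥(centralizer ({z} : Set G))} (hn : R.normA0 h) :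
    ∀ x ∈ R.A0, d.ρ h * x * (d.ρ h)⁻¹ ∈ R.A0 := by
  haveI := R.finite_aut
  intro x hx
  let f : R.A0 → R.A0 := fun y => ⟨(d.ρ h)⁻¹ * y * d.ρ h, hn y y.2⟩
  have hf : Function.Injective f := fun a b e => Subtype.ext (by
    have := congrArg (fun y : R.A0 => (y : MulAut (Bar E))) e
    simpa [f] using this)
  obtain ⟨y, hy⟩ := (Finite.injective_iff_surjective.1 hf) ⟨x, hx⟩
  have e : (d.ρ h)⁻¹ * y * d.ρ h = x := congrArg Subtype.val hy
  rw [← e]
  simpa [mul_assoc] using y.2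

theorem mem_NV_of_normA0 {h : ↥(centralizer ({z} : Set G))} (hn : R.normA0 h) : (h : G) ∈ NV R :=
  mem_NV R fun _ hx => R.conj_mem_V0 hn (maps_of_normA0 R hn) hx

theorem E_le_NV : E ≤ NV R := fun v hv =>
  mem_NV_of_normA0 R (h := ⟨v, d.L.le_H hv⟩) fun x hx => by
    rw [(d.mem_ker_iff).2 (show ((⟨v, d.L.le_H hv⟩ : ↥(centralizer ({z} : Set G))) : G) ∈ E from hv)]
    simpa using hx

theorem exists_sylow (o : Outer z E P N e) :
    ∃ (S : Sylow 2 ↥(centralizer ({z} : Set G))) (Q : Sylow 2 G),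
      (Q : Subgroup G) = (S : Subgroup ↥(centralizer ({z} : Set G))).map
        (centralizer ({z} : Set G)).subtype ∧ Placed R (Q : Subgroup G) := by
  obtain ⟨S, hS⟩ := R.exists_placed o
  obtain ⟨Q, hQ⟩ := (S.isPGroup'.map (centralizer ({z} : Set G)).subtype).exists_le_sylow
  have h := centralizer_sylow_is_sylow d S Q hQ
  exact ⟨S, Q, h, h ▸ hS⟩

/-- Conjugation preserves being elementary abelian. -/
theorem elementary_map {W : Subgroup G} (k : G) (hW : Cfsg.IsElementaryAbelian 2 W) :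
    Cfsg.IsElementaryAbelian 2 (W.map (MulAut.conj k).toMonoidHom) := by
  obtain ⟨⟨⟨hc⟩⟩, he⟩ := hW
  refine ⟨⟨⟨?_⟩⟩, ?_⟩
  · rintro ⟨_, a, ha, rfl⟩ ⟨_, b, hb, rfl⟩
    refine Subtype.ext ?_
    show (MulAut.conj k).toMonoidHom a * (MulAut.conj k).toMonoidHom b = _ * _
    rw [← map_mul, ← map_mul]
    exact congrArg _ (congrArg Subtype.val (hc ⟨a, ha⟩ ⟨b, hb⟩))
  · rintro _ ⟨a, ha, rfl⟩
    rw [← map_pow, he a ha, map_one]

theorem mem_NV_of_placed (o : Outer z E P N e) {T : Subgroup G} (hT : Placed R T) {k : G}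
    (hk : ∀ x ∈ R.V0, k * x * k⁻¹ ∈ T) : k ∈ NV R := by
  have h : R.V0.map (MulAut.conj k).toMonoidHom = R.V0 := by
    refine R.unique o hT ?_ (elementary_map k R.V0_elementary) ?_
    · rintro _ ⟨x, hx, rfl⟩
      exact hk x hx
    · rw [← R.card_V0]
      exact Nat.card_congr (R.V0.equivMapOfInjective _ (MulAut.conj k).injective).toEquiv.symm
  exact mem_NV R fun x hx => h.le ⟨x, hx, rfl⟩

/-- Conjugates of `z` in `V0` are conjugate to it in the normaliser of `V0`. -/
theorem burnside (o : Outer z E P N e) {g : G} (hg : g * z * g⁻¹ ∈ R.V0) :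
    ∃ n ∈ NV R, n * z * n⁻¹ = g * z * g⁻¹ := by
  haveI : Fact (Nat.Prime 2) := ⟨Nat.prime_two⟩
  obtain ⟨S, Q, hQS, hQ⟩ := exists_sylow R o
  set V1 : Subgroup G := R.V0.map (MulAut.conj g⁻¹).toMonoidHom with hV1
  have hcomm : ∀ a ∈ R.V0, ∀ b ∈ R.V0, a * b = b * a := fun a ha b hb =>
    congrArg Subtype.val (R.V0_elementary.1.1.1 ⟨a, ha⟩ ⟨b, hb⟩)
  have hV1H : V1 ≤ centralizer ({z} : Set G) := by
    rintro _ ⟨x, hx, rfl⟩
    refine mem_centralizer_singleton_iff.2 ?_
    show g⁻¹ * x * g⁻¹⁻¹ * z = z * (g⁻¹ * x * g⁻¹⁻¹)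
    calc g⁻¹ * x * g⁻¹⁻¹ * z = g⁻¹ * (x * (g * z * g⁻¹)) * g := by group
      _ = g⁻¹ * ((g * z * g⁻¹) * x) * g := by rw [hcomm x hx _ hg]
      _ = _ := by group
  have hp : IsPGroup 2 (V1.subgroupOf (centralizer ({z} : Set G))) :=
    IsPGroup.of_card (n := 11) (by
      rw [Nat.card_congr (subgroupOfEquivOfLe hV1H).toEquiv, hV1,
        ← Nat.card_congr (R.V0.equivMapOfInjective _ (MulAut.conj g⁻¹).injective).toEquiv, R.card_V0])
  obtain ⟨S1, hS1⟩ := hp.exists_le_sylow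
  obtain ⟨c, hc⟩ := MulAction.exists_smul_eq ↥(centralizer ({z} : Set G)) S1 S
  have hk : ∀ x ∈ R.V0, ((c : G) * g⁻¹) * x * ((c : G) * g⁻¹)⁻¹ ∈ (Q : Subgroup G) := by
    intro x hx
    have h1 : g⁻¹ * x * g⁻¹⁻¹ ∈ V1 := ⟨x, hx, rfl⟩
    rw [hQS]
    refine ⟨c * ⟨_, hV1H h1⟩ * c⁻¹, ?_, by simp [mul_assoc]⟩
    have := Subgroup.smul_mem_pointwise_smul _ (MulAut.conj c) _ (hS1 (mem_subgroupOf.2 h1) :
      (⟨_, hV1H h1⟩ : ↥(centralizer ({z} : Set G))) ∈ (S1 : Subgroup ↥(centralizer ({z} : Set G))))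
    rw [← hc]
    exact this
  refine ⟨((c : G) * g⁻¹)⁻¹, inv_mem (mem_NV_of_placed R o hQ hk), ?_⟩
  have hcz : (c : G) * z = z * c := mem_centralizer_singleton_iff.1 c.2
  calc ((c : G) * g⁻¹)⁻¹ * z * ((c : G) * g⁻¹)⁻¹⁻¹ = g * ((c : G)⁻¹ * (z * c)) * g⁻¹ := by group
    _ = g * z * g⁻¹ := by rw [← hcz, inv_mul_cancel_left]

/-- The conjugates of `z` in `V0`. -/
def zO (R : Real d) : Set G := {v | v ∈ R.V0 ∧ ∃ g : G, g * z * g⁻¹ = v}

theorem z_mem_V0 : z ∈ R.V0 := R.sHat_le_V0 R.z_mem_sHat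

theorem z_mem_zO : z ∈ zO R := ⟨z_mem_V0 R, 1, by simp⟩

theorem zO_conj {h v : G} (hh : h ∈ NV R) (hv : v ∈ zO R) : h * v * h⁻¹ ∈ zO R := by
  obtain ⟨hv, g, rfl⟩ := hv
  exact ⟨(mem_normalizer_iff.1 hh _).1 hv, h * g, by group⟩

theorem zO_sq {v : G} (hv : v ∈ zO R) : v * v = 1 ∧ v ≠ 1 := by
  obtain ⟨-, g, rfl⟩ := hv
  exact ⟨sq_conj_z d g, fun h => d.L.z_ne_one (conj_eq_one_iff.1 h)⟩

theorem card_zO (o : Outer z E P N e) :
    Nat.card (zO R) ∣ ∏ i : Fin 11, (2 ^ 11 - 2 ^ (i : ℕ)) ∧ ¬ 2 ∣ Nat.card (zO R) := by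
  classical
  haveI : Fact (Nat.Prime 2) := ⟨Nat.prime_two⟩
  obtain ⟨S, Q, hQS, hQ⟩ := exists_sylow R o
  let ψ : ↥(NV R) →* MulAut ↥R.V0 := R.V0.normalizerMonoidHom
  have hψ : ∀ (n : NV R) (x : R.V0), ((ψ n x : R.V0) : G) = n * x * (n : G)⁻¹ := fun _ _ => rfl
  set zV : R.V0 := ⟨z, z_mem_V0 R⟩
  let f : MulAction.orbit ψ.range zV → zO R := fun x => ⟨(x.1 : G), by
    obtain ⟨⟨_, n, rfl⟩, hn⟩ := MulAction.mem_orbit_iff.1 x.2
    refine ⟨x.1.2, n, ?_⟩
    rw [← hn]
    exact (hψ n zV).symm⟩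
  have hf : Function.Bijective f := by
    refine ⟨fun a b h => Subtype.ext (Subtype.ext (congrArg (fun q : zO R => (q : G)) h)),
      fun v => ?_⟩
    obtain ⟨hv, g, hg⟩ := v.2
    obtain ⟨n, hn, hnz⟩ := burnside R o (hg ▸ hv)
    refine ⟨⟨⟨(v : G), hv⟩, MulAction.mem_orbit_iff.2 ⟨⟨ψ ⟨n, hn⟩, ⟨_, rfl⟩⟩, Subtype.ext ?_⟩⟩,
      Subtype.ext rfl⟩
    show ((ψ ⟨n, hn⟩ zV : R.V0) : G) = v
    rw [hψ, hnz, hg]
  have hcard : Nat.card (zO R) = (MulAction.stabilizer ψ.range zV).index := by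
    rw [MulAction.index_stabilizer, ← Nat.card_coe_set_eq]
    exact (Nat.card_congr (Equiv.ofBijective f hf)).symm
  letI : CommGroup R.V0 :=
    { (inferInstance : Group R.V0) with mul_comm := R.V0_elementary.1.1.1 }
  refine ⟨hcard ▸ ((MulAction.stabilizer ψ.range zV).index_dvd_card.trans
    (H23.Three.card_dvd (p := 2) (n := 11) (fun x => Subtype.ext (R.V0_elementary.2 x x.2)) R.card_V0
      ψ.range)), ?_⟩
  have hQN : (Q : Subgroup G) ≤ NV R := fun t ht => mem_NV_of_placed R o hQ fun x hx =>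
    mul_mem (mul_mem ht (R.V0_le hQ hx)) (inv_mem ht)
  let C : Subgroup ↥(NV R) := ((Q : Subgroup G)).subgroupOf (NV R)
  have hle : C.map ψ.rangeRestrict ≤ MulAction.stabilizer ψ.range zV := by
    rintro _ ⟨n, hn, rfl⟩
    refine MulAction.mem_stabilizer_iff.2 (Subtype.ext ?_)
    show ((ψ n zV : R.V0) : G) = z
    rw [hψ]
    have hnz : (n : G) * z = z * n :=
      mem_centralizer_singleton_iff.1 (hQ.le_H (mem_subgroupOf.1 hn))
    show (n : G) * z * (n : G)⁻¹ = z
    rw [hnz, mul_inv_cancel_right]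
  have h1 : (MulAction.stabilizer ψ.range zV).index ∣ (Q : Subgroup G).index := by
    refine (Subgroup.index_dvd_of_le hle).trans ((Subgroup.index_map_dvd C
      ψ.rangeRestrict_surjective).trans ?_)
    show (Q : Subgroup G).relIndex (NV R) ∣ _
    exact Dvd.intro _ (Subgroup.relIndex_mul_index hQN)
  exact fun h => Q.not_dvd_index (hcard ▸ h |>.trans h1)

/-! ### The part inside `sHat` -/

/-- The elements of `E` over a list of vectors. -/
def lifts (R : Real d) (o : List ℕ) : Set G := {a | ∃ h : a ∈ E, ∃ v ∈ o, R.φ v = QuotientGroup.mk ⟨a, h⟩}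

theorem sVec_bound {v : ℕ} (hv : v ∈ sVec) : v < 4096 :=
  Nat.blt_eq.mp ((List.all_eq_true.1 sVec_lt) v hv)

theorem orb_sVec {o : List ℕ} (ho : o ∈ [orb0, orb1]) {v : ℕ} (hv : v ∈ o) : v ∈ sVec ∧ v ≠ 0 := by
  have h := (List.all_eq_true.1 orb_sub) o ho
  simp only [Bool.and_eq_true, List.all_eq_true] at h
  have h2 := h.2 v hv
  exact ⟨by simpa using h2.1, fun e => by rw [e] at h2; exact absurd h2.2 (by decide)⟩

theorem card_over {o : List ℕ} (ho : o ∈ [orb0, orb1]) (hnd : o.Nodup) :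
    (lifts R o).ncard = 2 * o.length := by
  classical
  set S : Set (Bar E) := R.φ '' {v | v ∈ o} with hS
  have h1 : Nat.card ((QuotientGroup.mk : ↥E → Bar E) ⁻¹' S) = 2 * o.length := by
    rw [Nat.card_congr (QuotientGroup.preimageMkEquivSubgroupProdSet (center ↥E) S), Nat.card_prod,
      d.L.hext.2, Nat.card_coe_set_eq, hS]
    have hinj : Set.InjOn R.φ {v | v ∈ o} := fun a ha b hb e =>
      R.φ_inj (sVec_bound (orb_sVec ho ha).1) (sVec_bound (orb_sVec ho hb).1) e
    rw [hinj.ncard_image]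
    rw [show {v | v ∈ o} = (o.toFinset : Set ℕ) by ext v; simp, Set.ncard_coe_finset,
      List.toFinset_card_of_nodup hnd]
  rw [← h1, ← Nat.card_coe_set_eq]
  exact Nat.card_congr
    { toFun := fun a => ⟨⟨a.1, a.2.1⟩, a.2.2⟩
      invFun := fun a => ⟨(a.1 : G), a.1.2, a.2⟩
      left_inv := fun _ => rfl
      right_inv := fun _ => rfl }

theorem over_mem_sHat {o : List ℕ} (ho : o ∈ [orb0, orb1]) {a : G} (ha : a ∈ lifts R o) :
    a ∈ R.sHat ∧ a ≠ 1 ∧ a ≠ z := by
  obtain ⟨haE, v, hv, hva⟩ := ha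
  obtain ⟨hvs, hv0⟩ := orb_sVec ho hv
  have hne : (QuotientGroup.mk (⟨a, haE⟩ : E) : Bar E) ≠ 1 := by
    rw [← hva, ← R.φ_zero]
    exact fun h => hv0 (R.φ_inj (sVec_bound hvs) (by norm_num) h)
  exact ⟨⟨haE, (R.fixed_A0 _).2 ⟨v, hvs, hva⟩⟩, fun h => hne ((d.mk_eq_one).2 (Or.inl h)),
    fun h => hne ((d.mk_eq_one).2 (Or.inr h))⟩

theorem exists_mover {o : List ℕ} (ho : o ∈ [orb0, orb1]) : ∀ v ∈ o,
    ∃ h : ↥(centralizer ({z} : Set G)), (h : G) ∈ NV R ∧ d.ρ h (R.φ (o.getD 0 0)) = R.φ v := by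
  intro v hv
  obtain ⟨j, hj, rfl⟩ := List.getElem_of_mem hv
  rw [← List.getD_eq_getElem (d := 0)]
  induction j using Nat.strong_induction_on with
  | _ j ih =>
    rcases Nat.eq_zero_or_pos j with rfl | hp
    · exact ⟨1, one_mem _, by rw [map_one]; rfl⟩
    · have h := (List.all_eq_true.1 ((List.all_eq_true.1 orb_ok) o ho)) (j - 1)
        (List.mem_range.2 (by omega))
      rw [show j - 1 + 1 = j by omega] at h
      obtain ⟨i, hi, h⟩ := List.any_eq_true.1 h
      obtain ⟨g, hg, h⟩ := List.any_eq_true.1 h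
      have hij : i < j := List.mem_range.1 hi
      obtain ⟨k, hk, hkv⟩ := ih i hij (hij.trans hj) (List.getElem_mem _)
      have hgN : (R.word g : G) ∈ NV R := by
        rcases List.mem_cons.1 hg with rfl | hg
        · refine mem_NV_of_normA0 R ?_
          rw [show R.word [3] = R.g 3 from mul_one (R.g 3)]
          exact R.normA0_g3
        · exact mem_NV_of_normA0 R (R.normA0_word hg)
      refine ⟨R.word g * k, mul_mem hgN hk, ?_⟩
      rw [map_mul, MulAut.mul_apply, hkv, R.apply, R.mat_word, Nat.eq_of_beq_eq_true h]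

/-- One orbit of vectors is either inside or outside the conjugates of `z`. -/
theorem over_saturated {o : List ℕ} (ho : o ∈ [orb0, orb1]) {a b : G} (ha : a ∈ lifts R o)
    (hb : b ∈ lifts R o) (haz : a ∈ zO R) : b ∈ zO R := by
  have hab := over_mem_sHat R ho hb
  obtain ⟨haE, v, hv, hva⟩ := ha
  obtain ⟨hbE, w, hw, hwb⟩ := hb
  obtain ⟨h1, n1, e1⟩ := exists_mover R ho v hv
  obtain ⟨h2, n2, e2⟩ := exists_mover R ho w hw
  set k := h2 * h1⁻¹ with hk
  have hkN : (k : G) ∈ NV R := mul_mem n2 (inv_mem n1)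
  have he : d.ρ k (R.φ v) = R.φ w := by
    rw [hk, map_mul, map_inv, MulAut.mul_apply, ← e1, MulAut.inv_apply_self, e2]
  rw [hva, hwb, d.ρ_mk, d.mk_eq_iff] at he
  have hmem := zO_conj R hkN haz
  rcases he with he | he <;> change b = _ at he
  · rw [he]; exact hmem
  -- `b` and its product with `z` are conjugate under `E`
  obtain ⟨f, hf, hfb⟩ : ∃ f ∈ E, f * b ≠ b * f := by
    by_contra hc
    push Not at hc
    rcases d.L.eq_one_or_z_of_central hbE hc with h | h
    · exact hab.2.1 h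
    · exact hab.2.2 h
  have hfz : f * (b * z) * f⁻¹ = b := by
    calc f * (b * z) * f⁻¹ = f * b * (z * f⁻¹) := by group
      _ = f * b * (f⁻¹ * z) := by rw [← (d.L.commute_z (inv_mem hf))]
      _ = (f * b * f⁻¹) * z := by group
      _ = (z * b) * z := by rw [(d.L.conj_cases hf hbE).resolve_left hfb]
      _ = b := by rw [← d.L.commute_z hbE, mul_assoc, d.L.zz, mul_one]
  rw [← hfz]
  refine zO_conj R (E_le_NV R hf) ?_
  rw [he, mul_assoc, d.L.zz, mul_one]
  exact hmem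

theorem inner_part : ∀ x ∈ (zO R ∩ R.sHat) \ {z}, x ∈ lifts R orb0 ∪ lifts R orb1 := by
  rintro x ⟨⟨hx, hxE, hxs⟩, hxz⟩
  obtain ⟨v, hv, hvx⟩ := (R.fixed_A0 _).1 hxs
  have h := (List.all_eq_true.1 orb_cover) v hv
  simp only [Bool.or_eq_true] at h
  rcases h with (h | h) | h
  · exfalso
    rw [Nat.eq_of_beq_eq_true h, R.φ_zero] at hvx
    rcases (d.mk_eq_one).1 hvx.symm with e | e
    · exact (zO_sq R hx).2 e
    · exact hxz e
  · exact Or.inl ⟨hxE, v, by simpa using h, hvx⟩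
  · exact Or.inr ⟨hxE, v, by simpa using h, hvx⟩

theorem inner_card : ((zO R ∩ R.sHat) \ {z}).ncard ∈ [0, 36, 90, 126] := by
  classical
  have h0 : (lifts R orb0).ncard = 36 := by
    rw [card_over R (List.mem_cons_self ..) orb_nodup.1, orb_nodup.2.2.1]
  have h1 : (lifts R orb1).ncard = 90 := by
    rw [card_over R (by simp) orb_nodup.2.1, orb_nodup.2.2.2]
  have hdis : Disjoint (lifts R orb0) (lifts R orb1) := by
    rw [Set.disjoint_left]
    rintro a ⟨ha, v, hv, hva⟩ ⟨ha', w, hw, hwa⟩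
    have he : v = w := R.φ_inj (sVec_bound (orb_sVec (List.mem_cons_self ..) hv).1)
      (sVec_bound (orb_sVec (o := orb1) (by simp) hw).1) (hva.trans hwa.symm)
    have := (List.all_eq_true.1 orb_excl) w hw
    simp [← he, hv] at this
  set A := (zO R ∩ R.sHat) \ {z}
  have hA : ∀ o ∈ [orb0, orb1], lifts R o ⊆ A ∨ Disjoint (lifts R o) A := by
    intro o ho
    by_cases h : ∃ a ∈ lifts R o, a ∈ zO R
    · obtain ⟨a, ha, haz⟩ := h
      refine Or.inl fun b hb => ?_
      have hm := over_mem_sHat R ho hb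
      exact ⟨⟨over_saturated R ho ha hb haz, hm.1⟩, hm.2.2⟩
    · push Not at h
      exact Or.inr (Set.disjoint_left.2 fun a ha hA => h a ha hA.1.1)
  have hsub := inner_part R
  rcases hA orb0 (List.mem_cons_self ..) with a0 | a0 <;> rcases hA orb1 (by simp) with a1 | a1
  · have : A = lifts R orb0 ∪ lifts R orb1 :=
      Set.Subset.antisymm hsub (Set.union_subset a0 a1)
    rw [this, Set.ncard_union_eq hdis, h0, h1]; simp
  · have : A = lifts R orb0 := Set.Subset.antisymm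
      (fun x hx => (hsub x hx).resolve_right fun h => Set.disjoint_left.1 a1 h hx) a0
    rw [this, h0]; simp
  · have : A = lifts R orb1 := Set.Subset.antisymm
      (fun x hx => (hsub x hx).resolve_left fun h => Set.disjoint_left.1 a0 h hx) a1
    rw [this, h1]; simp
  · have : A = ∅ := Set.eq_empty_iff_forall_notMem.2 fun x hx =>
      (hsub x hx).elim (fun h => Set.disjoint_left.1 a0 h hx) fun h => Set.disjoint_left.1 a1 h hx
    rw [this]; simp

/-! ### The part outside `sHat` -/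

/-- Conjugation on a stable set. -/
@[reducible] def conjOn (K : Subgroup G) (S : Set G) (h : ∀ k ∈ K, ∀ s ∈ S, k * s * k⁻¹ ∈ S) :
    MulAction K S where
  smul k s := ⟨k * s * (k : G)⁻¹, h k k.2 s s.2⟩
  one_smul s := Subtype.ext (show ((1 : K) : G) * s * ((1 : K) : G)⁻¹ = s by simp)
  mul_smul a b s := Subtype.ext (show ((a * b : K) : G) * s * ((a * b : K) : G)⁻¹ =
    (a : G) * ((b : G) * s * (b : G)⁻¹) * (a : G)⁻¹ by simp [mul_assoc])

/-- The conjugates of `z` in one coset of `sHat`. -/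
def part (R : Real d) (x : MulAut (Bar E)) : Set G :=
  {t | t ∈ zO R ∧ ∃ h : t ∈ centralizer ({z} : Set G), d.ρ ⟨t, h⟩ = x}

theorem part_conj {x : MulAut (Bar E)} {t : G} (ht : t ∈ part R x)
    {h : ↥(centralizer ({z} : Set G))} (hh : (h : G) ∈ NV R) :
    (h : G) * t * (h : G)⁻¹ ∈ part R (d.ρ h * x * (d.ρ h)⁻¹) := by
  obtain ⟨ht, htH, rfl⟩ := ht
  refine ⟨zO_conj R hh ht, mul_mem (mul_mem h.2 htH) (inv_mem h.2), ?_⟩
  rw [show (⟨(h : G) * t * (h : G)⁻¹, _⟩ : ↥(centralizer ({z} : Set G))) = h * ⟨t, htH⟩ * h⁻¹ from rfl,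
    map_mul, map_mul, map_inv]

include R in
theorem cent_E_le (o : Outer z E P N e) {t : G} (htH : t ∈ centralizer ({z} : Set G))
    (ht2 : t * t = 1) (htE : t ∉ E) :
    Nat.card {a : E // (a : G) * t = t * a} ≤ 512 := by
  set tH : ↥(centralizer ({z} : Set G)) := ⟨t, htH⟩
  have h256 := card_fix_le R o (h := tH) (by
    rw [← map_mul, show tH * tH = 1 from Subtype.ext ht2, map_one])
    (fun h => htE ((d.mem_ker_iff (h := tH)).1 h))
  let f : {a : E // (a : G) * t = t * a} →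
      ((QuotientGroup.mk : ↥E → Bar E) ⁻¹' {m : Bar E | d.ρ tH m = m}) := fun a => ⟨a.1, by
    show d.ρ tH (QuotientGroup.mk a.1) = _
    rw [d.ρ_mk]
    refine congrArg QuotientGroup.mk (Subtype.ext ?_)
    show t * (a.1 : G) * t⁻¹ = a.1
    rw [← a.2, mul_inv_cancel_right]⟩
  have hf : Function.Injective f := fun a b e => Subtype.ext (congrArg
    (fun q : ((QuotientGroup.mk : ↥E → Bar E) ⁻¹' {m : Bar E | d.ρ tH m = m}) => (q : E)) e)
  refine (Nat.card_le_card_of_injective f hf).trans ?_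
  rw [Nat.card_congr (QuotientGroup.preimageMkEquivSubgroupProdSet (center ↥E) _), Nat.card_prod,
    d.L.hext.2]
  exact Nat.mul_le_mul_left 2 h256

theorem sixteen_dvd_part (o : Outer z E P N e) {x : MulAut (Bar E)} (hx : x ≠ 1) :
    16 ∣ Nat.card (part R x) := by
  classical
  haveI : Fact (Nat.Prime 2) := ⟨Nat.prime_two⟩
  letI := conjOn E (part R x) fun k hk s hs => by
    have := part_conj R hs (h := ⟨k, d.L.le_H hk⟩) (E_le_NV R hk)
    rwa [(d.mem_ker_iff).2 (show ((⟨k, d.L.le_H hk⟩ : ↥(centralizer ({z} : Set G))) : G) ∈ E from hk),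
      one_mul, inv_one, mul_one] at this
  haveI := Fintype.ofFinite (part R x)
  rw [Nat.card_congr (MulAction.selfEquivSigmaOrbits E (part R x)), Nat.card_sigma]
  refine Finset.dvd_sum fun q _ => ?_
  set t := q.out with ht
  rw [Nat.card_coe_set_eq, ← MulAction.index_stabilizer]
  obtain ⟨htz, htH, htx⟩ := t.2
  have htE : (t : G) ∉ E := fun h => hx (by rw [← htx]; exact (d.mem_ker_iff).2 h)
  have hs : Nat.card (MulAction.stabilizer E t) ≤ 512 := by
    refine le_trans ?_ (cent_E_le R o htH (zO_sq R htz).1 htE)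
    refine Nat.card_le_card_of_injective (fun a => ⟨a.1, ?_⟩) fun a b e => Subtype.ext
      (congrArg (fun q : {a : E // (a : G) * t = t * a} => (q : E)) e)
    have h := congrArg Subtype.val (MulAction.mem_stabilizer_iff.1 a.2)
    exact mul_inv_eq_iff_eq_mul.1 h
  have hmul := (MulAction.stabilizer E t).card_mul_index
  rw [d.cardE] at hmul
  obtain ⟨k, hk, hke⟩ := (Nat.dvd_prime_pow Nat.prime_two).1
    (Dvd.intro_left _ hmul : (MulAction.stabilizer E t).index ∣ 2 ^ 13)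
  rw [hke]
  by_contra hno
  have : k ≤ 3 := by
    by_contra h
    exact hno (pow_dvd_pow 2 (by omega : 4 ≤ k))
  have h8 : 2 ^ k ≤ 8 := Nat.pow_le_pow_right (by norm_num) this
  rw [hke] at hmul
  nlinarith

theorem part_card_le {x : MulAut (Bar E)} : Nat.card (part R x) ≤ 128 := by
  rcases isEmpty_or_nonempty (part R x) with h | ⟨⟨t₀, ht₀⟩⟩
  · simp
  rw [← R.card_sHat]
  refine Nat.card_le_card_of_injective (fun t => (⟨t₀⁻¹ * t, ?_⟩ : R.sHat))
    fun a b e => Subtype.ext (mul_left_cancel (congrArg (fun q : R.sHat => (q : G)) e))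
  obtain ⟨⟨h0, -⟩, h0H, h0x⟩ := ht₀
  obtain ⟨⟨ht, -⟩, htH, htx⟩ := t.2
  refine R.V0_E (mul_mem (inv_mem h0) ht) ((d.mem_ker_iff (h := ⟨t₀, h0H⟩⁻¹ * ⟨_, htH⟩)).1 ?_)
  rw [map_mul, map_inv, h0x, htx, inv_mul_cancel]

theorem three_dvd_part {x : MulAut (Bar E)} (hx : x ∈ R.A0)
    (hfix : ∀ t ∈ part R x, (R.g 3 : G) * t ≠ t * R.g 3) : 3 ∣ Nat.card (part R x) := by
  classical
  haveI : Fact (Nat.Prime 3) := ⟨Nat.prime_three⟩
  have hc : d.ρ (R.g 3) * x * (d.ρ (R.g 3))⁻¹ = x := by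
    rw [(R.Y_comm (R.Q_le_Y (R.A0_le_Q hx))).eq, mul_inv_cancel_right]
  have hmaps : ∀ s ∈ part R x, (R.g 3 : G) * s * (R.g 3 : G)⁻¹ ∈ part R x := fun s hs => by
    have := part_conj R hs (h := R.g 3) (mem_NV_of_normA0 R R.normA0_g3)
    rwa [hc] at this
  letI := conjOn P (part R x) fun k hk s hs => by
    rcases R.g3_gen hk with rfl | rfl | rfl
    · simpa using hs
    · exact hmaps s hs
    · simpa [mul_assoc] using hmaps _ (hmaps s hs)
  have hp : IsPGroup 3 P := IsPGroup.of_card (n := 1) (by rw [d.cardP, pow_one])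
  have h := hp.card_modEq_card_fixedPoints (part R x)
  haveI : IsEmpty (MulAction.fixedPoints P (part R x)) := ⟨fun t => hfix _ t.1.2 (by
    have := congrArg Subtype.val (t.2 ⟨_, R.memP⟩)
    exact mul_inv_eq_iff_eq_mul.1 this)⟩
  rw [Nat.card_of_isEmpty (α := MulAction.fixedPoints P (part R x))] at h
  exact Nat.modEq_zero_iff_dvd.1 h

theorem exists_mover_A0 {x : MulAut (Bar E)} (hx : x ∈ R.A0) (hx1 : x ≠ 1)
    {x₀ : MulAut (Bar E)} (hx₀ : R.code x₀ = mK2.getD 0 []) :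
    ∃ h : ↥(centralizer ({z} : Set G)), (h : G) ∈ NV R ∧ d.ρ h * x₀ * (d.ρ h)⁻¹ = x := by
  obtain ⟨j, hj, hjx⟩ := List.getElem_of_mem ((List.mem_cons.1 (show R.code x ∈ mI :: mK2 from hx)
    ).resolve_left fun h => hx1 (R.mat_inj (h.trans R.mat_one.symm)))
  rw [← List.getD_eq_getElem (d := [])] at hjx
  induction j using Nat.strong_induction_on generalizing x with
  | _ j ih =>
    rcases Nat.eq_zero_or_pos j with rfl | hp
    · exact ⟨1, one_mem _, by rw [map_one]; simpa using R.mat_inj (hx₀.trans hjx)⟩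
    · have h := (List.all_eq_true.1 trans_K2) (j - 1) (List.mem_range.2 (by
        have := k_len.2; omega))
      rw [show j - 1 + 1 = j by omega] at h
      obtain ⟨i, hi, h⟩ := List.any_eq_true.1 h
      obtain ⟨w, hw, h⟩ := List.any_eq_true.1 h
      rw [beq_iff_eq] at h
      have hij : i < j := List.mem_range.1 hi
      have hn := R.normA0_word hw
      set y := (d.ρ (R.word w))⁻¹ * x * d.ρ (R.word w) with hy
      have hy' : R.code y = mK2.getD i [] := by
        have hm : (mK2.getD i ([] : List ℕ)) ∈ (mK2 : List (List ℕ)) := by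
          rw [List.getD_eq_getElem (hn := hij.trans hj)]; exact List.getElem_mem _
        obtain ⟨q, hq, hqA⟩ := List.getElem_of_mem (show mK2.getD i [] ∈ mQ by
          simpa using (List.all_eq_true.1 k2_sub) _ hm)
        obtain ⟨v, hv⟩ := R.exists_of_mem_mQ q (q_len ▸ hq)
        rw [List.getD_eq_getElem (hn := hq), hqA] at hv
        have he : d.ρ (R.word w) * d.ρ (R.word v) = x * d.ρ (R.word w) := R.mat_inj (by
          rw [R.mat_mul, R.mat_mul x, R.mat_word w, hv, ← hjx, h])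
        rw [hy, mul_assoc, ← he, inv_mul_cancel_left, hv]
      have hyA : y ∈ R.A0 := hn x hx
      obtain ⟨k, hk, hkx⟩ := ih i hij hyA (fun e => hx1 (by
        rw [hy] at e
        simpa [mul_assoc, mul_eq_one_iff_eq_inv, inv_mul_eq_one] using e)) (hij.trans hj) hy'.symm
      refine ⟨R.word w * k, mul_mem (mem_NV_of_normA0 R hn) hk, ?_⟩
      rw [map_mul, mul_inv_rev, show d.ρ (R.word w) * d.ρ k * x₀ * ((d.ρ k)⁻¹ * (d.ρ (R.word w))⁻¹) =
        d.ρ (R.word w) * (d.ρ k * x₀ * (d.ρ k)⁻¹) * (d.ρ (R.word w))⁻¹ by group, hkx, hy]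
      group

theorem outer_card {x₀ : MulAut (Bar E)} (hx₀ : R.code x₀ = mK2.getD 0 []) :
    (zO R \ R.sHat).ncard = 15 * Nat.card (part R x₀) := by
  classical
  haveI := R.finite_aut
  have hm0 : mK2.getD 0 ([] : List ℕ) ∈ (mI :: mK2 : List (List ℕ)) := by decide +kernel
  have hx0 : x₀ ∈ R.A0 := by show R.code x₀ ∈ mI :: mK2; rw [hx₀]; exact hm0
  have h15 : Nat.card {x : R.A0 // x ≠ 1} = 15 := by
    haveI := Fintype.ofFinite R.A0
    rw [Nat.card_eq_fintype_card, Fintype.card_subtype_compl, Fintype.card_subtype_eq,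
      ← Nat.card_eq_fintype_card, R.card_A0]
  have hmov : ∀ x : {x : R.A0 // x ≠ 1}, ∃ h : ↥(centralizer ({z} : Set G)), (h : G) ∈ NV R ∧
      d.ρ h * x₀ * (d.ρ h)⁻¹ = (x.1 : MulAut (Bar E)) := fun x =>
    exists_mover_A0 R x.1.2 (fun h => x.2 (Subtype.ext h)) hx₀
  choose mv hmvN hmvx using hmov
  have hne : ∀ {t : G} {x : MulAut (Bar E)}, t ∈ part R x → x ≠ 1 → t ∉ R.sHat := by
    rintro t x ⟨-, htH, rfl⟩ hx hs
    exact hx ((d.mem_ker_iff).2 (R.sHat_le hs))
  let f : {x : R.A0 // x ≠ 1} × part R x₀ → ↥(zO R \ R.sHat) := fun p =>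
    ⟨(mv p.1 : G) * p.2 * (mv p.1 : G)⁻¹, by
      have h := part_conj R p.2.2 (hmvN p.1)
      rw [hmvx] at h
      exact ⟨h.1, hne h fun e => p.1.2 (Subtype.ext e)⟩⟩
  have hf : Function.Bijective f := by
    refine ⟨fun p q h => ?_, fun t => ?_⟩
    · have h' : (mv p.1 : G) * p.2 * (mv p.1 : G)⁻¹ = (mv q.1 : G) * q.2 * (mv q.1 : G)⁻¹ :=
        congrArg Subtype.val h
      obtain ⟨-, hH, hρ⟩ := part_conj R p.2.2 (hmvN p.1)
      obtain ⟨-, hH', hρ'⟩ := part_conj R q.2.2 (hmvN q.1)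
      rw [hmvx] at hρ hρ'
      have hx : p.1 = q.1 := Subtype.ext (Subtype.ext (hρ.symm.trans
        ((congrArg d.ρ (Subtype.ext h')).trans hρ')))
      refine Prod.ext hx (Subtype.ext ?_)
      rw [hx] at h'
      simpa using h'
    · obtain ⟨⟨ht, hg⟩, hts⟩ := t.2
      obtain ⟨htH, htA, -⟩ := id ht
      let x : {x : R.A0 // x ≠ 1} := ⟨⟨d.ρ ⟨(t : G), htH⟩, htA⟩, fun e =>
        hts (R.V0_E ht ((d.mem_ker_iff).1 (congrArg Subtype.val e)))⟩
      have h := part_conj R (x := (x.1 : MulAut (Bar E))) (t := (t : G)) ⟨⟨ht, hg⟩, htH, rfl⟩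
        (h := (mv x)⁻¹) (inv_mem (hmvN x))
      rw [← hmvx x, map_inv, inv_inv, ← mul_assoc, ← mul_assoc, inv_mul_cancel_right, inv_mul_cancel,
        one_mul] at h
      refine ⟨⟨x, ⟨_, h⟩⟩, Subtype.ext ?_⟩
      show (mv x : G) * ((((mv x)⁻¹ : ↥(centralizer ({z} : Set G))) : G) * t *
        ((((mv x)⁻¹ : ↥(centralizer ({z} : Set G))) : G))⁻¹) * (mv x : G)⁻¹ = t
      simp [mul_assoc]
  rw [← Nat.card_coe_set_eq, ← Nat.card_congr (Equiv.ofBijective f hf), Nat.card_prod, h15]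

/-! ### `sHat` does not carry all transvections -/

theorem w_sum (m : Bar E) : d.ρ (R.g 3) m * d.ρ (R.g 3) (d.ρ (R.g 3) m) = m := by
  letI := d.barGroup
  have h : m * d.ρ (R.g 3) m * d.ρ (R.g 3) (d.ρ (R.g 3) m) = 1 := by
    refine R.fpf _ ?_
    rw [map_mul, map_mul, R.w_three]
    ac_rfl
  rw [mul_assoc] at h
  exact (inv_eq_of_mul_eq_one_right h).symm.trans (inv_eq_of_mul_eq_one_right (d.sq_bar m))

theorem not_all (o : Outer z E P N e)
    (hall : ∀ s ∈ R.sHat, s ≠ 1 → s ∈ zO R) (honly : ∀ v ∈ zO R, v ∈ R.sHat) : False := by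
  classical
  letI := d.barGroup
  have hS : ∀ {n s : G}, n ∈ NV R → s ∈ R.sHat → n * s * n⁻¹ ∈ R.sHat := by
    intro n s hn hs
    rcases eq_or_ne s 1 with rfl | h1
    · simp [one_mem]
    · exact honly _ (zO_conj R hn (hall s hs h1))
  obtain ⟨a, haS, ha1, haz⟩ : ∃ a ∈ R.sHat, a ≠ 1 ∧ a ≠ z := by
    obtain ⟨a, ha⟩ := QuotientGroup.mk_surjective (R.φ (orb0.getD 0 0))
    exact ⟨a, over_mem_sHat R (o := orb0) (List.mem_cons_self ..)
      ⟨a.2, _, by decide +kernel, ha.symm⟩⟩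
  obtain ⟨-, g, hg⟩ := hall a haS ha1
  obtain ⟨n, hn, hnz⟩ := burnside R o (hg.symm ▸ R.sHat_le_V0 haS)
  rw [hg] at hnz
  set z' := n⁻¹ * z * n with hz'
  have hz'S : z' ∈ R.sHat := by
    have := hS (inv_mem hn) R.z_mem_sHat
    rwa [inv_inv] at this
  -- an element of `E` centralising `z'` but not all of `sHat`
  obtain ⟨f, hfE, hfz, hfS⟩ : ∃ f ∈ E, f * z' = z' * f ∧ f ∉ R.sHat := by
    by_contra hc
    push Not at hc
    let χ : ↥E →* Multiplicative (ZMod 2) := MonoidHom.mk'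
      (fun b => Multiplicative.ofAdd (Data.bil z' (b : G))) (fun b c => by
        rw [← ofAdd_add, Subgroup.coe_mul, d.bil_add (R.sHat_le hz'S) b.2 c.2])
    have h1 := card_le_two_mul_ker χ
    have h2 : Nat.card χ.ker ≤ 128 := by
      rw [← R.card_sHat]
      refine Nat.card_le_card_of_injective (fun b => (⟨((b : E) : G), hc _ b.1.2 ?_⟩ : R.sHat))
        fun b c e => Subtype.ext (Subtype.ext (congrArg (fun q : R.sHat => (q : G)) e))
      rcases d.mul_comm_cases (R.sHat_le hz'S) b.1.2 with ⟨-, e⟩ | ⟨h', -⟩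
      · exact e.symm
      · rw [show Data.bil z' ((b : E) : G) = 0 from Multiplicative.ofAdd.injective (MonoidHom.mem_ker.1 b.2)] at h'
        exact absurd h' (by decide)
    rw [d.cardE] at h1
    omega
  obtain ⟨s1, hs1, hs1f⟩ : ∃ s ∈ R.sHat, s * f ≠ f * s := by
    by_contra hc
    push Not at hc
    exact hfS (R.sHat_centralizer hfE hc)
  set h := n * f * n⁻¹ with hh
  have hhH : h ∈ centralizer ({z} : Set G) := by
    refine mem_centralizer_singleton_iff.2 ?_
    calc h * z = n * (f * z') * n⁻¹ := by rw [hh, hz']; group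
      _ = n * (z' * f) * n⁻¹ := by rw [hfz]
      _ = z * h := by rw [hh, hz']; group
  have hhS : ∀ s ∈ R.sHat, h * s * h⁻¹ = s ∨ h * s * h⁻¹ = a * s := by
    intro s hs
    have hs' : n⁻¹ * s * n ∈ R.sHat := by
      have := hS (inv_mem hn) hs
      rwa [inv_inv] at this
    rcases d.L.conj_cases hfE (R.sHat_le hs') with e | e
    · left
      calc h * s * h⁻¹ = n * (f * (n⁻¹ * s * n) * f⁻¹) * n⁻¹ := by rw [hh]; group
        _ = s := by rw [e]; group
    · right
      calc h * s * h⁻¹ = n * (f * (n⁻¹ * s * n) * f⁻¹) * n⁻¹ := by rw [hh]; group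
        _ = n * z * n⁻¹ * s := by rw [e]; group
        _ = a * s := by rw [hnz]
  set hH' : ↥(centralizer ({z} : Set G)) := ⟨h, hhH⟩
  set c : Bar E := QuotientGroup.mk (⟨a, R.sHat_le haS⟩ : E)
  have hc1 : c ≠ 1 := fun h => (d.mk_eq_one.1 h).elim ha1 haz
  have hact : ∀ m ∈ Real.fixed R.A0, d.ρ hH' m = m ∨ d.ρ hH' m = c * m := by
    intro m hm
    obtain ⟨b, rfl⟩ := QuotientGroup.mk_surjective m
    rcases hhS b ⟨b.2, hm⟩ with e | e
    · left; rw [d.ρ_mk]; exact congrArg QuotientGroup.mk (Subtype.ext e)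
    · right; rw [d.ρ_mk, ← QuotientGroup.mk_mul]; exact congrArg QuotientGroup.mk (Subtype.ext e)
  have hwF : ∀ m ∈ Real.fixed R.A0, d.ρ (R.g 3) m ∈ Real.fixed R.A0 := fun m hm =>
    R.fixed_apply R.normA0_g3 hm
  by_cases hY : d.ρ hH' ∈ Outer.Y d
  · -- a transvection commuting with the multiplication
    have hs1' := hS hn hs1
    set m1 : Bar E := QuotientGroup.mk (⟨n * s1 * n⁻¹, R.sHat_le hs1'⟩ : E)
    have hm1 : m1 ∈ Real.fixed R.A0 := hs1'.2
    have hmove : d.ρ hH' m1 = c * m1 := by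
      rw [d.ρ_mk, ← QuotientGroup.mk_mul]
      refine congrArg QuotientGroup.mk (Subtype.ext ?_)
      rcases hhS _ hs1' with e | e
      · exfalso
        apply hs1f
        have e2 : f * s1 * f⁻¹ = s1 := by
          calc f * s1 * f⁻¹ = n⁻¹ * (h * (n * s1 * n⁻¹) * h⁻¹) * n := by rw [hh]; group
            _ = s1 := by rw [e]; group
        exact (mul_inv_eq_iff_eq_mul.1 e2).symm
      · exact e
    have hc2 := DFunLike.congr_fun (R.Y_comm hY).eq m1
    rw [MulAut.mul_apply, MulAut.mul_apply, hmove, map_mul] at hc2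
    rcases hact _ (hwF _ hm1) with e | e
    · rw [e] at hc2
      exact hc1 ((d.ρ (R.g 3)).injective (by rw [mul_eq_right.1 hc2, map_one]))
    · rw [e] at hc2
      exact hc1 (R.fpf c (mul_right_cancel hc2))
  · -- a transvection inverting the multiplication
    set w := d.ρ (R.g 3)
    have hsub : Real.fixed R.A0 ⊆ ({1, c, w (w c), c * w (w c)} : Set (Bar E)) := by
      intro m hm
      have he := DFunLike.congr_fun (R.outer_apply o hY) m
      rw [MulAut.mul_apply, MulAut.mul_apply, MulAut.mul_apply] at he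
      have hww : w (w m) = w m * m := by
        conv_rhs => arg 2; rw [← w_sum R m]
        rw [← mul_assoc, d.sq_bar, one_mul]
      rcases hact _ (hwF _ hm) with e1 | e1 <;> rcases hact _ hm with e2 | e2 <;>
        change d.ρ hH' (w m) = w (w (d.ρ hH' m)) at he <;> rw [e1, e2] at he
      · left
        rw [hww] at he
        exact left_eq_mul.1 he
      · right; right; left
        rw [map_mul, map_mul, hww] at he
        have : w m * (w (w c) * m) = w m * 1 := by rw [mul_one, mul_left_comm]; exact he.symm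
        have h1 := mul_left_cancel this
        rw [← inv_eq_of_mul_eq_one_right h1, inv_eq_of_mul_eq_one_right (d.sq_bar _)]
      · right; left
        rw [hww] at he
        exact (mul_left_cancel (a := w m) (by rw [mul_comm (w m) c]; exact he)).symm
      · right; right; right
        rw [map_mul, map_mul, hww] at he
        have h1 : c = w (w c) * m := mul_left_cancel (a := w m) (by
          rw [mul_comm (w m) c, mul_left_comm]; exact he)
        show m = c * w (w c)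
        have h2 : c * w (w c) = w (w c) * m * w (w c) := congrArg (· * w (w c)) h1
        rw [h2, mul_right_comm, d.sq_bar, one_mul]
    have h64 := R.card_fixed_A0
    rw [Nat.card_coe_set_eq] at h64
    have := Set.ncard_le_ncard hsub (Set.toFinite _)
    have h4 : ({1, c, w (w c), c * w (w c)} : Set (Bar E)).ncard ≤ 4 := by
      refine (Set.ncard_insert_le _ _).trans (Nat.succ_le_succ ?_)
      refine (Set.ncard_insert_le _ _).trans (Nat.succ_le_succ ?_)
      refine (Set.ncard_insert_le _ _).trans (Nat.succ_le_succ ?_)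
      rw [Set.ncard_singleton]
    omega

/-- The fusion: `z` has a conjugate, other than itself, in `C_H(P)`. -/
theorem exists_conj_cent_P [IsSimpleGroup G] (hG : ¬ IsMulCommutative G) (d : Data z E P)
    (o : Outer z E P N e) :
    ∃ u ∈ centralizer ({z} : Set G) ⊓ centralizer (P : Set G), u ∉ zpowers z ∧ IsConj u z := by
  classical
  obtain ⟨R⟩ := exists_real o d
  by_contra hc
  push Not at hc
  have hm0 : mK2.getD 0 ([] : List ℕ) ∈ (mQ : List (List ℕ)) := by decide +kernel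
  obtain ⟨j, hj, hjA⟩ := List.getElem_of_mem hm0
  obtain ⟨v, hv⟩ := R.exists_of_mem_mQ j (q_len ▸ hj)
  rw [List.getD_eq_getElem (hn := hj), hjA] at hv
  set x₀ := d.ρ (R.word v)
  have hxA : x₀ ∈ R.A0 := by
    show R.code x₀ ∈ mI :: mK2
    rw [hv]
    decide +kernel
  have hx1 : x₀ ≠ 1 := fun h => by
    rw [h, R.mat_one] at hv
    revert hv
    decide +kernel
  have hfix : ∀ t ∈ part R x₀, (R.g 3 : G) * t ≠ t * R.g 3 := by
    rintro t ⟨⟨-, g, hg⟩, htH, htx⟩ hcomm
    refine hc t ⟨htH, mem_centralizer_iff.2 fun u hu => ?_⟩ (fun hz => hx1 ?_)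
      (isConj_iff.2 ⟨g⁻¹, by rw [← hg]; group⟩)
    · rcases R.g3_gen hu with rfl | rfl | rfl
      · simp
      · exact hcomm
      · exact (Commute.mul_left (show Commute (R.g 3 : G) t from hcomm) hcomm).eq
    · rw [← htx]
      exact (d.mem_ker_iff).2 (zpowers_le.2 d.L.z_mem hz)
  have h16 := sixteen_dvd_part R o hx1
  have h3 := three_dvd_part R hxA hfix
  have hle := part_card_le R (x := x₀)
  set m := Nat.card (part R x₀) with hm
  have hm48 : m ∈ [0, 48, 96] := by
    simp only [List.mem_cons, List.not_mem_nil, or_false]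
    omega
  set A := (zO R ∩ R.sHat) \ {z} with hA
  have hsum : Nat.card (zO R) = 1 + A.ncard + 15 * m := by
    rw [Nat.card_coe_set_eq, ← Set.ncard_inter_add_ncard_sdiff_eq_ncard (zO R) R.sHat (Set.toFinite _),
      hA, outer_card R hv, ← Set.ncard_sdiff_singleton_add_one
        (show z ∈ zO R ∩ R.sHat from ⟨z_mem_zO R, R.z_mem_sHat⟩) (Set.toFinite _)]
    omega
  obtain ⟨hdvd, -⟩ := card_zO R o
  rw [hsum] at hdvd
  rcases sizes_ok _ (inner_card R) m hm48 hdvd with h1 | ⟨ha, hm'⟩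
  · -- `z` would be weakly closed
    obtain ⟨g, hg, hgz⟩ := exists_conj_V0 R hG o
    have h2 : ({g * z * g⁻¹, z} : Set G) ⊆ zO R := by
      rintro x (rfl | rfl)
      · exact ⟨hg, g, rfl⟩
      · exact z_mem_zO R
    have h3 := Set.ncard_le_ncard h2 (Set.toFinite _)
    rw [Set.ncard_pair hgz, ← Nat.card_coe_set_eq, hsum, h1] at h3
    omega
  · -- all of `sHat`
    have hout : zO R \ R.sHat = ∅ := (Set.ncard_eq_zero (Set.toFinite _)).1 (by
      rw [outer_card R hv, ← hm, hm'])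
    refine not_all R o (fun s hs hs1 => ?_) fun t ht => by
      by_contra h
      exact (Set.eq_empty_iff_forall_notMem.1 hout) t ⟨ht, h⟩
    have hsub : A ⊆ (R.sHat : Set G) \ {1, z} := fun x hx =>
      ⟨hx.1.2, by rintro (e | e); exacts [(zO_sq R hx.1.1).2 e, hx.2 e]⟩
    have heq := Set.eq_of_subset_of_ncard_le hsub (by
      rw [ha, Set.ncard_sdiff (by rintro x (rfl | rfl); exacts [one_mem _, R.z_mem_sHat]) (Set.toFinite _),
        Set.ncard_pair d.L.z_ne_one.symm, ← Nat.card_coe_set_eq]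
      show Nat.card R.sHat - 2 ≤ 126
      rw [R.card_sHat]) (Set.toFinite _)
    rcases eq_or_ne s z with rfl | hsz
    · exact z_mem_zO R
    · have : s ∈ A := heq.symm ▸ ⟨hs, by rintro (e | e); exacts [hs1 e, hsz e]⟩
      exact this.1.1

/-- The fusion, from the type alone. -/
theorem exists_fusion [IsSimpleGroup G] (hG : ¬ IsMulCommutative G)
    (hJ : Cfsg.IsOfJankoFourTypeWith z P) :
    ∃ u ∈ centralizer ({z} : Set G) ⊓ centralizer (P : Set G), u ∉ zpowers z ∧ IsConj u z := by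
  obtain ⟨N, e, o⟩ := outer_of_type hJ
  exact exists_conj_cent_P hG (data_of_type hJ) o

end H88.J4Fusion
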