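import Cfsg.Agent.H69.J4.Main
import Cfsg.Agent.H88.J4Fusion.Cert
import Cfsg.Agent.H85.BrauerSuzuki

/-!
The central involution of the centralizer in a simple group of `J₄` type is not weakly closed in
the elementary abelian subgroup of order `2 ^ 11`.
-/

set_option autoImplicit false
set_option maxHeartbeats 400000
set_option linter.unusedSectionVars false
set_option linter.style.haveILetI false

namespace H88.J4Fusion

open Subgroup Cfsg.Agent.H69.J4

theorem zmod_two_eq : ∀ a : ZMod 2, a ≠ 0 → a = 1 := by decide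

theorem card_le_two_mul_ker {A : Type*} [Group A] [Finite A] (f : A →* Multiplicative (ZMod 2)) :
    Nat.card A ≤ 2 * Nat.card f.ker := by
  rw [← Subgroup.card_mul_index f.ker, Subgroup.index_ker, mul_comm]
  refine Nat.mul_le_mul_right _ ((Subgroup.card_le_card_group _).trans ?_)
  simp

variable {G : Type*} [Group G] [Finite G]
variable {z : G} {E P N : Subgroup G} {d : Data z E P} (R : Real d)
variable {e : ↥(centralizer ({z} : Set G)) →* MulAut ↥Cfsg.Spor.M22}

/-! ### The form -/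

include d in
theorem bil_mk {c : G} {a b : E} (hc : c ∈ E)
    (h : (QuotientGroup.mk a : Bar E) = QuotientGroup.mk b) :
    Data.bil c (a : G) = Data.bil c (b : G) := by
  rcases d.mk_eq_iff.1 h with e | e
  · rw [e]
  · rw [e, d.bil_add hc a.2 d.L.z_mem]
    classical
    rw [show Data.bil c z = 0 from if_pos (d.L.commute_z hc), add_zero]

theorem bil_conj (u a b : G) :
    Data.bil (u * a * u⁻¹) (u * b * u⁻¹) = Data.bil a b := by
  classical
  simp only [Data.bil, ← MulAut.conj_apply, ← map_mul, EmbeddingLike.apply_eq_iff_eq]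

theorem quad_conj (u a : G) : Data.quad (u * a * u⁻¹) = Data.quad a := by
  classical
  simp only [Data.quad, ← MulAut.conj_apply, ← map_mul, EmbeddingLike.map_eq_one_iff]

theorem bil_inv_self (a : G) : Data.bil a a⁻¹ = 0 := by
  classical
  exact if_pos (by simp)

theorem quad_inv (a : G) : Data.quad a⁻¹ = Data.quad a := by
  classical
  simp only [Data.quad, ← mul_inv_rev, inv_eq_one]

include d in
theorem bil_inv {c a : G} (hc : c ∈ E) (ha : a ∈ E) : Data.bil c a⁻¹ = Data.bil c a :=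
  bil_mk (d := d) (a := (⟨a, ha⟩ : E)⁻¹) (b := ⟨a, ha⟩) hc (by
    rw [QuotientGroup.mk_inv, inv_eq_of_mul_eq_one_right (d.sq_bar _)])

/-! ### Involutions of `E` -/

theorem letter_step (v : ℕ) :
    d.ρ (R.g (stepJ v)) (R.φ v) = R.φ (ap (letter (stepJ v)) v) := by
  rw [R.apply, R.mat_letter]

include R in
theorem letter_lt (i v : ℕ) : ap (letter i) v < 4096 := by
  rw [← R.mat_letter i]
  exact ap_lt (n := 12) (R.mat_lt _) v

theorem reach : ∀ n, ∀ v < 4096, depthJ v = n → ∃ h : ↥(centralizer ({z} : Set G)), ∃ x,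
    (x ∈ sVec ∨ x = rootN) ∧ d.ρ h (R.φ v) = R.φ x := by
  intro n
  induction n using Nat.strong_induction_on with
  | _ n ih =>
    intro v hv hn
    have h := (List.all_eq_true.1 tree_ok) v (List.mem_range.2 hv)
    simp only [Bool.or_eq_true] at h
    rcases h with ((h | h) | h) | h
    · refine ⟨1, v, Or.inl ?_, by rw [map_one]; rfl⟩
      rw [Nat.eq_of_beq_eq_true h]; decide +kernel
    · exact ⟨1, v, Or.inl (by simpa using h), by rw [map_one]; rfl⟩
    · exact ⟨1, v, Or.inr (Nat.eq_of_beq_eq_true h), by rw [map_one]; rfl⟩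
    · rw [Nat.blt_eq, hn] at h
      obtain ⟨g, x, hx, he⟩ := ih _ h _ (letter_lt R _ _) rfl
      exact ⟨g * R.g (stepJ v), x, hx, by rw [map_mul, MulAut.mul_apply, letter_step, he]⟩

theorem qv_reach {v x : ℕ} (hv : x ∈ sVec ∨ x = rootN) {h : ↥(centralizer ({z} : Set G))}
    (he : d.ρ h (R.φ v) = R.φ x) : R.qv v = R.qv x := by
  have hx : x < 4096 := by
    rcases hv with hv | rfl
    · exact Nat.blt_eq.mp ((List.all_eq_true.1 sVec_lt) x hv)
    · decide
  rw [R.apply] at he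
  rw [← R.qv_apply h v, R.φ_inj (ap_lt (n := 12) (R.mat_lt _) v) hx he]

theorem qv_root : R.qv rootN = 1 := by
  classical
  refine zmod_two_eq _ fun h0 => ?_
  have hall : ∀ a ∈ E, a * a = 1 := by
    intro a ha
    obtain ⟨v, hv, hva⟩ := R.φ_surj (QuotientGroup.mk (⟨a, ha⟩ : E))
    obtain ⟨h, x, hx, he⟩ := reach R _ v hv rfl
    have hq : Data.quad a = 0 := by
      rw [← R.qv_mk ⟨a, ha⟩ v hva, qv_reach R hx he]
      rcases hx with hx | rfl
      · exact R.qv_sVec hx
      · exact h0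
    rw [d.sq_eq ha, hq]
    rfl
  have hc : ∀ a ∈ E, ∀ b ∈ E, a * b = b * a := fun a ha b hb => by
    rw [← inv_eq_of_mul_eq_one_right (hall _ (mul_mem ha hb)), mul_inv_rev,
      inv_eq_of_mul_eq_one_right (hall _ hb), inv_eq_of_mul_eq_one_right (hall _ ha)]
  have := (d.abelian_bound le_rfl hc).1
  rw [d.cardE] at this
  norm_num at this

/-- An involution of `E` is conjugate into the elementary subgroup of order `128`. -/
theorem exists_conj_sHat {t : G} (ht : t ∈ E) (ht2 : t * t = 1) :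
    ∃ h ∈ centralizer ({z} : Set G), h * t * h⁻¹ ∈ R.sHat := by
  classical
  obtain ⟨v, hv, hvt⟩ := R.φ_surj (QuotientGroup.mk (⟨t, ht⟩ : E))
  obtain ⟨h, x, hx, he⟩ := reach R _ v hv rfl
  rcases hx with hx | rfl
  · rw [hvt, d.ρ_mk] at he
    exact ⟨h, h.2, d.L.conj_mem h.2 ht, (R.fixed_A0 _).2 ⟨x, hx, he.symm⟩⟩
  · exfalso
    have h1 := qv_reach R (Or.inr rfl) he
    rw [qv_root R, R.qv_mk ⟨t, ht⟩ v hvt, show Data.quad t = 0 from if_pos ht2] at h1
    exact absurd h1 (by decide)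

/-- The hypothesis that `z` is weakly closed. -/
def Closed (R : Real d) : Prop := ∀ g : G, g * z * g⁻¹ ∈ R.V0 → g * z * g⁻¹ = z

theorem sq_conj_z (d : Data z E P) (g : G) : g * z * g⁻¹ * (g * z * g⁻¹) = 1 := by
  rw [← MulAut.conj_apply, ← map_mul, d.L.zz, map_one]

theorem eq_z_of_conj {h x : G} (hh : h ∈ centralizer ({z} : Set G)) (he : h * x * h⁻¹ = z) :
    x = z := by
  have hc : h * z = z * h := mem_centralizer_singleton_iff.1 hh
  calc x = h⁻¹ * (h * x * h⁻¹) * h := by group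
    _ = h⁻¹ * (z * h) := by rw [he, mul_assoc]
    _ = z := by rw [← hc, inv_mul_cancel_left]

theorem conj_conj_eq (h g : G) : h * (g * z * g⁻¹) * h⁻¹ = h * g * z * (h * g)⁻¹ := by group

/-- With `z` weakly closed, `z` is its only conjugate in `E`. -/
theorem Closed.eq_of_mem_E (hW : Closed R) {g : G} (hg : g * z * g⁻¹ ∈ E) : g * z * g⁻¹ = z := by
  obtain ⟨h, hh, hs⟩ := exists_conj_sHat R hg (sq_conj_z d g)
  refine eq_z_of_conj hh ?_
  rw [conj_conj_eq] at hs ⊢
  exact hW _ (R.sHat_le_V0 hs)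

/-! ### Involutions of `H` -/

theorem exists_conj_mInv (o : Outer z E P N e) {x : MulAut (Bar E)} (hx : x ∈ Outer.Y d)
    (hx2 : x * x = 1) (hx1 : x ≠ 1) :
    ∃ h : ↥(centralizer ({z} : Set G)), R.code (d.ρ h * x * (d.ρ h)⁻¹) ∈ mInv := by
  haveI := R.finite_aut
  haveI : Fact (Nat.Prime 2) := ⟨Nat.prime_two⟩
  have hp : IsPGroup 2 (zpowers x) := IsPGroup.of_card (n := 1) (by
    rw [Nat.card_zpowers, pow_one]
    exact orderOf_eq_prime (by rw [sq, hx2]) hx1)
  obtain ⟨c, hc, hconj⟩ := R.exists_conj_le_Q o (zpowers_le.2 hx) hp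
  obtain ⟨h, -, rfl⟩ := hc
  refine ⟨h, R.mem_mInv (hconj x (mem_zpowers x)) ?_ ?_⟩
  · rw [← MulAut.conj_apply, ← map_mul, hx2, map_one]
  · rw [Ne, conj_eq_one_iff]; exact hx1

theorem exists_conj_A0 (o : Outer z E P N e) {x : MulAut (Bar E)} (hx : x ∈ Outer.Y d)
    (hx2 : x * x = 1) (hx1 : x ≠ 1) :
    ∃ h : ↥(centralizer ({z} : Set G)), d.ρ h * x * (d.ρ h)⁻¹ ∈ R.A0 := by
  obtain ⟨h, hm⟩ := exists_conj_mInv R o hx hx2 hx1
  obtain ⟨w, -, hw⟩ := List.any_eq_true.1 ((List.all_eq_true.1 conj_ok) _ hm)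
  obtain ⟨A', hA', e'⟩ := List.any_eq_true.1 hw
  rw [beq_iff_eq] at e'
  have hQ : A' ∈ mQ := by simpa using (List.all_eq_true.1 k2_sub) _ hA'
  obtain ⟨j, hj, hjA⟩ := List.getElem_of_mem hQ
  obtain ⟨v, hv⟩ := R.exists_of_mem_mQ j (q_len ▸ hj)
  rw [List.getD_eq_getElem (hn := hj), hjA] at hv
  have he : d.ρ (R.word w) * (d.ρ h * x * (d.ρ h)⁻¹) = d.ρ (R.word v) * d.ρ (R.word w) :=
    R.mat_inj (by rw [R.mat_mul, R.mat_mul (d.ρ (R.word v)), R.mat_word w, hv, e'])
  refine ⟨R.word w * h, ?_⟩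
  have : d.ρ (R.word w * h) * x * (d.ρ (R.word w * h))⁻¹ = d.ρ (R.word v) := by
    calc d.ρ (R.word w * h) * x * (d.ρ (R.word w * h))⁻¹
        = d.ρ (R.word w) * (d.ρ h * x * (d.ρ h)⁻¹) * (d.ρ (R.word w))⁻¹ := by
          rw [map_mul]; group
      _ = d.ρ (R.word v) := by rw [he, mul_inv_cancel_right]
  rw [this]
  show R.code _ ∈ mI :: mK2
  rw [hv]
  exact List.mem_cons_of_mem _ hA'

/-- An involution acting inside `Y` is conjugate into `V0`, or to its product with `z`. -/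
theorem inner_cases (o : Outer z E P N e) {y : G} (hy : y ∈ centralizer ({z} : Set G))
    (hy2 : y * y = 1) (hY : d.ρ ⟨y, hy⟩ ∈ Outer.Y d) :
    (∃ h ∈ centralizer ({z} : Set G), h * y * h⁻¹ ∈ R.V0) ∨ ∃ f : G, f * y * f⁻¹ = y * z := by
  by_cases h1 : d.ρ ⟨y, hy⟩ = 1
  · obtain ⟨h, hh, hs⟩ := exists_conj_sHat R ((d.mem_ker_iff (h := ⟨y, hy⟩)).1 h1) hy2
    exact Or.inl ⟨h, hh, R.sHat_le_V0 hs⟩
  obtain ⟨h, hA⟩ := exists_conj_A0 R o hY
    (by rw [← map_mul, show (⟨y, hy⟩ * ⟨y, hy⟩ : ↥(centralizer ({z} : Set G))) = 1 from Subtype.ext hy2,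
      map_one]) h1
  have hρ : d.ρ (h * ⟨y, hy⟩ * h⁻¹) ∈ R.A0 := by rw [map_mul, map_mul, map_inv]; exact hA
  obtain ⟨t, ht, htH, hte⟩ := R.exists_V0_lift hρ
  set y' : G := (h : G) * y * (h : G)⁻¹ with hy'
  have hE : y' * t⁻¹ ∈ E := by
    refine (d.mem_ker_iff (h := h * ⟨y, hy⟩ * h⁻¹ * (⟨t, htH⟩)⁻¹)).1 ?_
    rw [map_mul, map_inv, hte, mul_inv_cancel]
  by_cases hs : y' * t⁻¹ ∈ R.sHat
  · left
    refine ⟨h, h.2, ?_⟩
    have := mul_mem (R.sHat_le_V0 hs) ht
    rwa [inv_mul_cancel_right] at this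
  obtain ⟨s, hsS, hsc⟩ : ∃ s ∈ R.sHat, s * (y' * t⁻¹) ≠ y' * t⁻¹ * s := by
    by_contra hc
    push Not at hc
    exact hs (R.sHat_centralizer hE hc)
  have hse : s * (y' * t⁻¹) * s⁻¹ = y' * t⁻¹ * z := by
    rcases d.L.conj_cases (R.sHat_le hsS) hE with h' | h'
    · exact absurd h' hsc
    · rw [h', d.L.commute_z hE]
  have hst : s * t = t * s := ht.2.2 s hsS
  have hzt : z * t = t * z := (mem_centralizer_singleton_iff.1 htH).symm
  have hsy : s * y' * s⁻¹ = y' * z := by
    calc s * y' * s⁻¹ = s * (y' * t⁻¹) * (t * s⁻¹) := by group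
      _ = s * (y' * t⁻¹) * (s⁻¹ * t) := by
          rw [(Commute.inv_left (show Commute s t from hst)).eq]
      _ = s * (y' * t⁻¹) * s⁻¹ * t := by group
      _ = y' * t⁻¹ * (z * t) := by rw [hse]; group
      _ = y' * z := by rw [hzt]; group
  right
  refine ⟨(h : G)⁻¹ * s * h, ?_⟩
  have hhz : (h : G) * z = z * h := mem_centralizer_singleton_iff.1 h.2
  calc (h : G)⁻¹ * s * h * y * ((h : G)⁻¹ * s * h)⁻¹ = (h : G)⁻¹ * (s * y' * s⁻¹) * h := by
        rw [hy']; group
    _ = y * ((h : G)⁻¹ * (z * h)) := by rw [hsy, hy']; group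
    _ = y * z := by rw [← hhz, inv_mul_cancel_left]

/-- With `z` weakly closed, a conjugate of `z` whose product with `z` is not one lies outside `Y`. -/
theorem Closed.out_of_Y (hW : Closed R) (o : Outer z E P N e) {g : G}
    (hH : g * z * g⁻¹ ∈ centralizer ({z} : Set G)) (hne : g * z * g⁻¹ ≠ z)
    (hnc : ∀ k : G, k * z * k⁻¹ ≠ g * z * g⁻¹ * z) : d.ρ ⟨_, hH⟩ ∉ Outer.Y d := by
  intro hY
  rcases inner_cases R o hH (sq_conj_z d g) hY with ⟨h, hh, hv⟩ | ⟨f, hf⟩
  · rw [conj_conj_eq] at hv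
    refine hne (eq_z_of_conj hh ?_)
    rw [conj_conj_eq]
    exact hW _ hv
  · rw [conj_conj_eq] at hf
    exact hnc _ hf

/-! ### Fixed points of involutions on `E / Z(E)` -/

include R in
theorem card_fix_le (o : Outer z E P N e) {h : ↥(centralizer ({z} : Set G))}
    (h2 : d.ρ h * d.ρ h = 1) (h1 : d.ρ h ≠ 1) :
    Nat.card {m : Bar E // d.ρ h m = m} ≤ 256 := by
  classical
  haveI : Finite (Bar E) := inferInstance
  by_cases hY : d.ρ h ∈ Outer.Y d
  · obtain ⟨c, hm⟩ := exists_conj_mInv R o hY h2 h1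
    set x := d.ρ c * d.ρ h * (d.ρ c)⁻¹ with hx
    have hb := R.card_fixed_le (B := zpowers x) (K := [R.code x]) (fun A hA => by
      rw [List.mem_singleton] at hA
      exact ⟨x, mem_zpowers x, hA.symm⟩)
    have hfi := (List.all_eq_true.1 fix_inv) _ hm
    rw [Nat.ble_eq] at hfi
    simp only [List.all_cons, List.all_nil, Bool.and_true] at hb
    refine le_trans ?_ (hb.trans hfi)
    let f : {m : Bar E // d.ρ h m = m} → Real.fixed (zpowers x) := fun m => ⟨d.ρ c m.1, fun y hy => by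
      have hxm : x (d.ρ c m.1) = d.ρ c m.1 := by
        rw [← MulAut.mul_apply, hx, inv_mul_cancel_right, MulAut.mul_apply, m.2]
      exact (zpowers_le.2 (show x ∈ MulAction.stabilizer (MulAut (Bar E)) (d.ρ c m.1) from hxm)) hy⟩
    exact Nat.card_le_card_of_injective f fun a b e => Subtype.ext ((d.ρ c).injective
      (congrArg (fun q : Real.fixed (zpowers x) => (q : Bar E)) e))
  · letI := d.barGroup
    set w := d.ρ (R.g 3)
    set F := {m : Bar E // d.ρ h m = m}
    let f : F × F → Bar E := fun p => p.1.1 * w p.2.1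
    have hf : Function.Injective f := by
      rintro ⟨a, b⟩ ⟨a', b'⟩ heq
      have heq' : a.1 * w b.1 = a'.1 * w b'.1 := heq
      have hwq : w (b.1 * b'.1⁻¹) = a.1⁻¹ * a'.1 := by
        rw [map_mul, map_inv, mul_inv_eq_iff_eq_mul, mul_assoc, ← heq', inv_mul_cancel_left]
      have hfix : d.ρ h (w (b.1 * b'.1⁻¹)) = w (b.1 * b'.1⁻¹) := by
        rw [hwq, map_mul, map_inv, a.2, a'.2]
      have hout := DFunLike.congr_fun (R.outer_apply o hY) (b.1 * b'.1⁻¹)
      rw [MulAut.mul_apply, MulAut.mul_apply, MulAut.mul_apply, map_mul (d.ρ h), map_inv (d.ρ h), b.2,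
        b'.2] at hout
      change d.ρ h (w (b.1 * b'.1⁻¹)) = w (w (b.1 * b'.1⁻¹)) at hout
      have hb : b.1 * b'.1⁻¹ = 1 :=
        R.fpf _ (w.injective (hout.symm.trans hfix))
      rw [mul_inv_eq_one] at hb
      have ha : a.1 = a'.1 := by rw [hb] at heq'; exact mul_right_cancel heq'
      exact Prod.ext (Subtype.ext ha) (Subtype.ext hb)
    have h4 := Nat.card_le_card_of_injective f hf
    rw [Nat.card_prod, d.card_bar] at h4
    show Nat.card F ≤ 256
    nlinarith

/-! ### The triple -/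

include R in
/-- For an involution of `H` outside `E`, two elements of `E` whose commutators with it are
commuting involutions generating a group of order four modulo `z`. -/
theorem exists_pair (o : Outer z E P N e) {u : G} (hu : u ∈ centralizer ({z} : Set G))
    (hu2 : u * u = 1) (huE : u ∉ E) :
    ∃ a ∈ E, ∃ b ∈ E, (∀ x ∈ [u * a * u * a⁻¹, u * b * u * b⁻¹,
        (u * a * u * a⁻¹) * (u * b * u * b⁻¹)], x ∈ E ∧ x * x = 1 ∧ x ≠ 1 ∧ x ≠ z) ∧
      Commute a (u * b * u * b⁻¹) ∧ Commute (u * a * u * a⁻¹) (u * b * u * b⁻¹) := by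
  classical
  letI := d.barGroup
  set uH : ↥(centralizer ({z} : Set G)) := ⟨u, hu⟩
  have huinv : u⁻¹ = u := inv_eq_of_mul_eq_one_right hu2
  have hconjE : ∀ {a : G}, a ∈ E → u * a * u ∈ E := fun {a} ha => by
    have := d.L.conj_mem hu ha
    rwa [huinv] at this
  have hiE : ∀ {a : G}, a ∈ E → u * a * u * a⁻¹ ∈ E := fun ha => mul_mem (hconjE ha) (inv_mem ha)
  let i : E → E := fun a => ⟨u * a * u * (a : G)⁻¹, hiE a.2⟩
  let ψ : ↥E →* Bar E := MonoidHom.mk' (fun a => d.ρ uH (QuotientGroup.mk a) * QuotientGroup.mk a)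
    (fun a b => by rw [QuotientGroup.mk_mul, map_mul, mul_mul_mul_comm])
  have hψ : ∀ a : E, ψ a = QuotientGroup.mk (i a) := by
    intro a
    show d.ρ uH (QuotientGroup.mk a) * QuotientGroup.mk a = _
    have : i a = ⟨u * a * u⁻¹, d.L.conj_mem hu a.2⟩ * a⁻¹ :=
      Subtype.ext (by show _ = u * (a : G) * u⁻¹ * (a : G)⁻¹; rw [huinv])
    rw [this, QuotientGroup.mk_mul, QuotientGroup.mk_inv,
      inv_eq_of_mul_eq_one_right (d.sq_bar (QuotientGroup.mk a)), d.ρ_mk]
  have hker : Nat.card ψ.ker ≤ 512 := by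
    have h256 := card_fix_le R o (h := uH) (by
      rw [← map_mul, show uH * uH = 1 from Subtype.ext hu2, map_one])
      (fun h => huE ((d.mem_ker_iff (h := uH)).1 h))
    let f : ψ.ker → ((QuotientGroup.mk : ↥E → Bar E) ⁻¹' {m : Bar E | d.ρ uH m = m}) :=
      fun a => ⟨a.1, by
        have h := MonoidHom.mem_ker.1 a.2
        show d.ρ uH (QuotientGroup.mk a.1) = QuotientGroup.mk a.1
        rw [eq_inv_of_mul_eq_one_left (show d.ρ uH (QuotientGroup.mk a.1) * QuotientGroup.mk a.1 = 1 from h),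
          inv_eq_of_mul_eq_one_right (d.sq_bar (QuotientGroup.mk a.1))]⟩
    have hf : Function.Injective f := fun a b e => Subtype.ext (congrArg
      (fun q : ((QuotientGroup.mk : ↥E → Bar E) ⁻¹' {m : Bar E | d.ρ uH m = m}) => (q : E)) e)
    refine (Nat.card_le_card_of_injective f hf).trans ?_
    rw [Nat.card_congr (QuotientGroup.preimageMkEquivSubgroupProdSet (center ↥E) _), Nat.card_prod,
      d.L.hext.2]
    exact Nat.mul_le_mul_left 2 h256
  -- the forms on the commutators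
  have hbuu : ∀ a b : G, Data.bil (u * a * u) (u * b * u) = Data.bil a b := fun a b => by
    have := bil_conj u a b
    rwa [huinv] at this
  have hsq : ∀ a : E, Data.quad (i a : G) = Data.bil (a : G) (i a : G) := by
    intro a
    show Data.quad (u * a * u * (a : G)⁻¹) = Data.bil (a : G) (u * a * u * (a : G)⁻¹)
    have hq : Data.quad (u * (a : G) * u) = Data.quad (a : G) := by
      have := quad_conj u (a : G)
      rwa [huinv] at this
    rw [d.quad_mul (hconjE a.2) (inv_mem a.2), hq, quad_inv,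
      d.bil_add a.2 (hconjE a.2) (inv_mem a.2), bil_inv_self, Data.bil_comm (a : G)⁻¹,
      bil_inv (d := d) (hconjE a.2) a.2, Data.bil_comm (u * (a : G) * u), ← two_mul,
      show (2 : ZMod 2) = 0 from rfl, zero_mul, zero_add, add_zero]
  have hbii : ∀ a b : E, Data.bil (i a : G) (i b : G) = 0 := by
    intro a b
    show Data.bil (u * a * u * (a : G)⁻¹) (u * b * u * (b : G)⁻¹) = 0
    rw [d.bil_add (hiE a.2) (hconjE b.2) (inv_mem b.2), bil_inv (d := d) (hiE a.2) b.2,
      Data.bil_comm _ (u * (b : G) * u), Data.bil_comm _ (b : G),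
      d.bil_add (hconjE b.2) (hconjE a.2) (inv_mem a.2), d.bil_add b.2 (hconjE a.2) (inv_mem a.2),
      bil_inv (d := d) (hconjE b.2) a.2, bil_inv (d := d) b.2 a.2, hbuu,
      show Data.bil (u * (b : G) * u) (a : G) = Data.bil (b : G) (u * a * u) by
        rw [← hbuu (b : G), show u * (u * (a : G) * u) * u = u * u * a * (u * u) by group, hu2,
          one_mul, mul_one]]
    generalize Data.bil (b : G) (a : G) = p, Data.bil (b : G) (u * a * u) = q
    revert p q
    decide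
  have hmk : ∀ a b : E, (QuotientGroup.mk (i (a * b)) : Bar E) = QuotientGroup.mk (i a * i b) :=
    fun a b => by rw [QuotientGroup.mk_mul, ← hψ, ← hψ, ← hψ, map_mul]
  let χ : ↥E →* Multiplicative (ZMod 2) := MonoidHom.mk'
    (fun a => Multiplicative.ofAdd (Data.quad (i a : G))) (fun a b => by
      rw [← ofAdd_add, d.quad_eq_of_mk (hmk a b), Subgroup.coe_mul, d.quad_mul (i a).2 (i b).2,
        hbii, add_zero])
  have hE0 : Nat.card ↥E = 8192 := d.cardE
  have hK : 4096 ≤ Nat.card χ.ker := by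
    have := card_le_two_mul_ker χ
    omega
  have hkle : ∀ (A : Subgroup ↥E), A ≤ ψ.ker → Nat.card A ≤ 512 := fun A hA =>
    (Nat.card_le_card_of_injective _ (Subgroup.inclusion_injective hA)).trans hker
  obtain ⟨a, ha, ha1⟩ : ∃ a ∈ χ.ker, a ∉ ψ.ker := SetLike.not_le_iff_exists.1 fun h => by
    have := hkle _ h
    omega
  let χ' : ↥χ.ker →* Multiplicative (ZMod 2) := MonoidHom.mk'
    (fun b => Multiplicative.ofAdd (Data.bil (a : G) (i (b : E) : G))) (fun b c => by
      rw [← ofAdd_add]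
      refine congrArg _ ?_
      rw [← d.bil_add a.2 (i (b : E)).2 (i (c : E)).2]
      exact bil_mk (d := d) a.2 (hmk b c))
  have hK' : 2048 ≤ Nat.card χ'.ker := by
    have := card_le_two_mul_ker χ'
    omega
  obtain ⟨b, hb, hb'⟩ : ∃ b : χ.ker, b ∈ χ'.ker ∧ ψ b ≠ 1 ∧ ψ b ≠ ψ a := by
    by_contra hc
    push Not at hc
    let f : ↥χ'.ker →* Bar E := (ψ.comp χ.ker.subtype).comp χ'.ker.subtype
    have hf : Nat.card f.range ≤ 2 := by
      have hsub : (f.range : Set (Bar E)) ⊆ {1, ψ a} := by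
        rintro _ ⟨c, rfl⟩
        by_cases h1 : ψ ((c : χ.ker) : E) = 1
        · exact Or.inl h1
        · exact Or.inr (hc _ c.2 h1)
      refine (Nat.card_mono (Set.toFinite _) hsub).trans ?_
      rw [Nat.card_coe_set_eq]
      exact (Set.ncard_insert_le _ _).trans (by simp)
    have hfk : Nat.card f.ker ≤ 512 := by
      refine le_trans ?_ hker
      refine Nat.card_le_card_of_injective (fun c => (⟨((c.1 : χ.ker) : E), c.2⟩ : ψ.ker)) ?_
      intro c c' h
      exact Subtype.ext (Subtype.ext (Subtype.ext (congrArg (fun q : ψ.ker => (q : E)) h)))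
    have := Subgroup.card_mul_index f.ker
    rw [Subgroup.index_ker] at this
    have := Nat.mul_le_mul hfk hf
    omega
  have hqa : Data.quad (i a : G) = 0 := Multiplicative.ofAdd.injective (MonoidHom.mem_ker.1 ha)
  have hqb : Data.quad (i (b : E) : G) = 0 :=
    Multiplicative.ofAdd.injective (MonoidHom.mem_ker.1 b.2)
  have hab : Data.bil (a : G) (i (b : E) : G) = 0 :=
    Multiplicative.ofAdd.injective (MonoidHom.mem_ker.1 hb)
  have hcomm : ∀ {x y : G}, x ∈ E → y ∈ E → Data.bil x y = 0 → Commute x y := fun {x y} hx hy h => by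
    rcases d.mul_comm_cases hx hy with ⟨-, e⟩ | ⟨h', -⟩
    · exact e
    · rw [h] at h'; exact absurd h' (by decide)
  have hgood : ∀ x : E, Data.quad (x : G) = 0 → (QuotientGroup.mk x : Bar E) ≠ 1 →
      (x : G) ∈ E ∧ (x : G) * x = 1 ∧ (x : G) ≠ 1 ∧ (x : G) ≠ z := by
    intro x hq hx
    refine ⟨x.2, by rw [d.sq_eq x.2, hq]; rfl, fun h => hx ((d.mk_eq_one).2 (Or.inl h)),
      fun h => hx ((d.mk_eq_one).2 (Or.inr h))⟩
  refine ⟨a, a.2, (b : E), (b : E).2, ?_, hcomm a.2 (i (b : E)).2 hab,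
    hcomm (i a).2 (i (b : E)).2 (hbii _ _)⟩
  intro x hx
  simp only [List.mem_cons, List.not_mem_nil, or_false] at hx
  rcases hx with rfl | rfl | rfl
  · exact hgood (i a) hqa (by rw [← hψ]; exact ha1)
  · exact hgood (i (b : E)) hqb (by rw [← hψ]; exact hb'.1)
  · refine hgood (i a * i (b : E)) ?_ ?_
    · rw [Subgroup.coe_mul, d.quad_mul (i a).2 (i (b : E)).2, hqa, hqb, hbii]; rfl
    · rw [QuotientGroup.mk_mul, ← hψ, ← hψ]
      intro h
      apply hb'.2
      rw [eq_inv_of_mul_eq_one_right h, inv_eq_of_mul_eq_one_right (d.sq_bar _)]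

/-- The involution `z` is not weakly closed. -/
theorem Closed.isolated (hW : Closed R) (o : Outer z E P N e) :
    Cfsg.IsIsolatedInvolution z := by
  refine ⟨d.L.hz, fun g hg => ?_⟩
  by_contra hne
  set u := g * z * g⁻¹ with hudef
  have hu2 : u * u = 1 := sq_conj_z d g
  have huinv : u⁻¹ = u := inv_eq_of_mul_eq_one_right hu2
  have huH : u ∈ centralizer ({z} : Set G) := mem_centralizer_singleton_iff.2 hg.symm.eq
  obtain ⟨a, ha, b, hb, hgood, hab, hij⟩ :=
    exists_pair R o huH hu2 fun h => hne (Closed.eq_of_mem_E R hW h)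
  set i := u * a * u * a⁻¹ with hi
  set j := u * b * u * b⁻¹ with hj
  obtain ⟨hiE, hi2, hi1, hiz⟩ := hgood i (by simp)
  obtain ⟨hjE, hj2, hj1, hjz⟩ := hgood j (by simp)
  obtain ⟨hkE, hk2, hk1, hkz⟩ := hgood (i * j) (by simp)
  -- the three conjugates
  have hui : u * i = a * u * a⁻¹ := by
    rw [hi]; simp only [← mul_assoc, hu2, one_mul]
  have huj : u * j = b * u * b⁻¹ := by
    rw [hj]; simp only [← mul_assoc, hu2, one_mul]
  have huk : u * (i * j) = a * b * u * (a * b)⁻¹ := by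
    calc u * (i * j) = a * u * a⁻¹ * j := by rw [← mul_assoc, hui]
      _ = a * u * (a⁻¹ * j) := by group
      _ = a * u * (j * a⁻¹) := by rw [hab.inv_left.eq]
      _ = a * (u * j) * a⁻¹ := by group
      _ = a * b * u * (a * b)⁻¹ := by rw [huj]; group
  have key : ∀ {x f : G}, x ∈ E → x * x = 1 → x ≠ 1 → x ≠ z → u * x = f * u * f⁻¹ →
      ∃ h : g⁻¹ * (u * x) * g ∈ centralizer ({z} : Set G),
        d.ρ ⟨_, h⟩ ∉ Outer.Y d ∧ u * x = x * u := by
    intro x f hxE hx2 hx1 hxz hux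
    have hsq : u * x * (u * x) = 1 := by
      rw [hux, ← MulAut.conj_apply, ← map_mul, hu2, map_one]
    have hc : u * x = x * u := by
      calc u * x = (u * x)⁻¹ := (inv_eq_of_mul_eq_one_right hsq).symm
        _ = x * u := by rw [mul_inv_rev, huinv, inv_eq_of_mul_eq_one_right hx2]
    have hz' : z = g⁻¹ * u * g := by rw [hudef]; group
    have hH : g⁻¹ * (u * x) * g ∈ centralizer ({z} : Set G) := by
      refine mem_centralizer_singleton_iff.2 ?_
      rw [hz']
      calc g⁻¹ * (u * x) * g * (g⁻¹ * u * g) = g⁻¹ * (u * (x * u)) * g := by group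
        _ = g⁻¹ * (u * (u * x)) * g := by rw [hc]
        _ = _ := by group
    have he : g⁻¹ * (u * x) * g = g⁻¹ * f * g * z * (g⁻¹ * f * g)⁻¹ := by
      rw [hux, hudef]; group
    refine ⟨hH, ?_, hc⟩
    have hyH : g⁻¹ * f * g * z * (g⁻¹ * f * g)⁻¹ ∈ centralizer ({z} : Set G) := he ▸ hH
    rw [show (⟨_, hH⟩ : ↥(centralizer ({z} : Set G))) = ⟨_, hyH⟩ from Subtype.ext he]
    refine Closed.out_of_Y R hW o hyH (fun h => hx1 ?_) (fun k hk => ?_)
    · rw [← he] at h
      have h' : u * x = u := by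
        calc u * x = g * (g⁻¹ * (u * x) * g) * g⁻¹ := by group
          _ = u := by rw [h]
      exact mul_eq_left.1 h'
    · rw [← he] at hk
      have h' : g⁻¹ * (u * x) * g * z = g⁻¹ * x * g := by
        conv_lhs => rw [hz']
        calc g⁻¹ * (u * x) * g * (g⁻¹ * u * g) = g⁻¹ * ((u * x) * u) * g := by group
          _ = g⁻¹ * (x * (u * u)) * g := by rw [hc]; simp only [mul_assoc]
          _ = _ := by rw [hu2, mul_one]
      rw [h'] at hk
      have hx' : g * k * z * (g * k)⁻¹ = x := by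
        calc g * k * z * (g * k)⁻¹ = g * (k * z * k⁻¹) * g⁻¹ := by group
          _ = x := by rw [hk]; group
      exact hxz (hx' ▸ Closed.eq_of_mem_E R hW (g := g * k) (hx'.symm ▸ hxE))
  obtain ⟨h1, n1, c1⟩ := key hiE hi2 hi1 hiz hui
  obtain ⟨h2, n2, -⟩ := key hjE hj2 hj1 hjz huj
  obtain ⟨h3, n3, c3⟩ := key hkE hk2 hk1 hkz huk
  have hY := R.mul_mem_Y o n1 n2
  apply n3
  have hzH : z ∈ centralizer ({z} : Set G) := Cfsg.Agent.H9.LargeData.z_mem_H z
  have he : (⟨_, h3⟩ : ↥(centralizer ({z} : Set G))) = ⟨_, h1⟩ * ⟨_, h2⟩ * ⟨z, hzH⟩ := Subtype.ext (by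
    show g⁻¹ * (u * (i * j)) * g = g⁻¹ * (u * i) * g * (g⁻¹ * (u * j) * g) * z
    calc g⁻¹ * (u * (i * j)) * g = g⁻¹ * ((i * j) * u) * g := by rw [c3]
      _ = g⁻¹ * (i * (1 * (j * u))) * g := by group
      _ = g⁻¹ * (i * ((u * u) * (j * u))) * g := by rw [hu2]
      _ = g⁻¹ * ((i * u) * (u * j)) * g * (g⁻¹ * u * g) := by group
      _ = g⁻¹ * ((u * i) * (u * j)) * g * (g⁻¹ * u * g) := by rw [c1]
      _ = _ := by rw [hudef]; group)
  rw [he, map_mul, (d.mem_ker_iff (h := ⟨z, hzH⟩)).2 d.L.z_mem, mul_one]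
  exact hY

/-- In a simple group of `J₄` type the involution `z` is not weakly closed in `V0`. -/
theorem exists_conj_V0 [IsSimpleGroup G] (hG : ¬ IsMulCommutative G) (o : Outer z E P N e) :
    ∃ g : G, g * z * g⁻¹ ∈ R.V0 ∧ g * z * g⁻¹ ≠ z := by
  by_contra hc
  push Not at hc
  have hzc := H85.zStar (Closed.isolated R hc o)
  haveI := H1.pPrimeCore_normal' 2 G
  rcases (H1.pPrimeCore_normal' 2 G).eq_bot_or_eq_top with h | h
  · have hcen : z ∈ center G := Subgroup.mem_center_iff.2 fun g => by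
      have := hzc g
      rw [h, mem_bot, mul_inv_eq_one, mul_inv_eq_iff_eq_mul] at this
      exact this.symm
    rcases (inferInstance : (center G).Normal).eq_bot_or_eq_top with h' | h'
    · rw [h', mem_bot] at hcen
      exact d.L.z_ne_one hcen
    · exact hG ⟨⟨fun a b => (Subgroup.mem_center_iff.1 (h' ▸ mem_top a) b).symm⟩⟩
  · have := H85.odd_orderOf_of_mem_core (h ▸ mem_top z)
    rw [d.L.hz] at this
    exact absurd this (by decide)

end H88.J4Fusion
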